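import Mathlib
import Cfsg.Agent.Base
import Cfsg.Agent.Lib.FGS83.FH2
import Cfsg.Agent.Lib.PGroup.Basic

/-!
# Frobenius groups of operators: the key module lemma (helper49)
-/

set_option autoImplicit false

namespace H49.KM

open Subgroup H2 H83

section lin
variable {k W : Type*} [Field k] [AddCommGroup W] [Module k W]

theorem indep {ι Q : Type*} (T : Q → Module.End k W) (s : Finset ι) (μ : ι → Q → k) (μ₀ : Q → k)
    (hμ : ∀ i ∈ s, μ i ≠ μ₀) : ∀ (w : ι → W) (w₀ : W), (∀ x, T x w₀ = μ₀ x • w₀) →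
      (∀ i ∈ s, ∀ x, T x (w i) = μ i x • w i) → w₀ + ∑ i ∈ s, w i = 0 → w₀ = 0 := by
  classical
  induction s using Finset.induction_on with
  | empty => intro w w₀ _ _ h; simpa using h
  | insert j s hj ih =>
    intro w w₀ h0 h1 h
    obtain ⟨x, hx⟩ := Function.ne_iff.1 (hμ j (Finset.mem_insert_self _ _))
    have h2 := ih (fun i hi => hμ i (Finset.mem_insert_of_mem hi))
      (fun i => (μ i x - μ j x) • w i) ((μ₀ x - μ j x) • w₀)
      (fun y => by rw [map_smul, h0, smul_comm])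
      (fun i hi y => by rw [map_smul, h1 i (Finset.mem_insert_of_mem hi), smul_comm]) (by
        have e := congrArg (fun v => T x v - μ j x • v) h
        simp only [Finset.sum_insert hj, map_add, map_sum, smul_add, Finset.smul_sum, map_zero,
          smul_zero, sub_zero, h0, h1 j (Finset.mem_insert_self _ _)] at e
        rw [Finset.sum_congr rfl fun i hi => h1 i (Finset.mem_insert_of_mem hi) x] at e
        simp only [sub_smul, Finset.sum_sub_distrib]
        rw [← e]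
        abel)
    exact (smul_eq_zero.1 h2).resolve_left (sub_ne_zero.2 (Ne.symm hx))

variable {Q : Type*} [Group Q] [Fintype Q] (σ : Representation k Q W)

/-- class sums -/
noncomputable def cs (x : Q) : Module.End k W := ∑ y : Q, σ (y * x * y⁻¹)

theorem cs_comm (x g : Q) : cs σ x * σ g = σ g * cs σ x := by
  rw [cs, Finset.sum_mul, Finset.mul_sum]
  refine (Fintype.sum_equiv (Equiv.mulLeft g) _ _ fun y => ?_).symm
  rw [← map_mul, ← map_mul, Equiv.coe_mulLeft]
  congr 1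
  group

theorem cs_cs (x x' : Q) : cs σ x * cs σ x' = cs σ x' * cs σ x := by
  conv_lhs => rw [cs.eq_1 σ x', Finset.mul_sum]
  conv_rhs => rw [cs.eq_1 σ x', Finset.sum_mul]
  exact Finset.sum_congr rfl fun y _ => cs_comm σ x _

/-- weight vectors -/
def Wt (μ : Q → k) (w : W) : Prop := ∀ x, cs σ x w = μ x • w

variable {σ}

theorem Wt.map {μ : Q → k} {w : W} (h : Wt σ μ w) (g : Q) : Wt σ μ (σ g w) := fun x => by
  rw [← Module.End.mul_apply, cs_comm, Module.End.mul_apply, h, map_smul]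

variable (σ) in
/-- the kernel on a set of homogeneous components -/
def kerS (S : Set (Q → k)) : Subgroup Q where
  carrier := {x | ∀ μ ∈ S, ∀ w, Wt σ μ w → σ x w = w}
  one_mem' := fun _ _ _ _ => by rw [map_one, Module.End.one_apply]
  mul_mem' := fun {a b} ha hb μ hμ w hw => by
    rw [map_mul, Module.End.mul_apply, hb μ hμ w hw, ha μ hμ w hw]
  inv_mem' := fun {a} ha μ hμ w hw => by
    conv_lhs => rw [← ha μ hμ w hw]
    rw [← Module.End.mul_apply, ← map_mul, inv_mul_cancel, map_one, Module.End.one_apply]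

theorem kerS_normal (S : Set (Q → k)) : (kerS σ S).Normal := ⟨fun x hx g μ hμ w hw => by
  rw [map_mul, map_mul, Module.End.mul_apply, Module.End.mul_apply, hx μ hμ _ (hw.map g⁻¹),
    ← Module.End.mul_apply, ← map_mul, mul_inv_cancel, map_one, Module.End.one_apply]⟩

theorem scalar (hQ : (Nat.card Q : k) ≠ 0) {S : Set (Q → k)} {z : Q}
    (hz : ∀ y, z⁻¹ * (y * z * y⁻¹) ∈ kerS σ S) {μ : Q → k} (hμ : μ ∈ S) {w : W} (hw : Wt σ μ w) :
    σ z w = (μ z * (Nat.card Q : k)⁻¹) • w := by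
  have h1 := hw z
  rw [cs, LinearMap.sum_apply, Finset.sum_congr rfl (g := fun _ => σ z w) fun y _ => by
    conv_rhs => rw [← hz y μ hμ w hw]
    rw [← Module.End.mul_apply, ← map_mul, mul_inv_cancel_left], Finset.sum_const,
    Finset.card_univ, ← Nat.card_eq_fintype_card, ← Nat.cast_smul_eq_nsmul k] at h1
  rw [mul_comm, mul_smul, ← h1, smul_smul, inv_mul_cancel₀ hQ, one_smul]

end lin

variable {A : Type*} [Group A]

/-- The action of an operator group on functions. -/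
@[reducible] def funAct {Q : Type*} [Group Q] (ψ : A →* MulAut Q) (k : Type*) :
    MulAction A (Q → k) where
  smul a μ := fun x => μ (ψ a⁻¹ x)
  one_smul μ := by
    funext x
    change μ (ψ 1⁻¹ x) = μ x
    rw [inv_one, act_one]
  mul_smul a b μ := by
    funext x
    change μ (ψ (a * b)⁻¹ x) = μ (ψ b⁻¹ (ψ a⁻¹ x))
    rw [act_act, mul_inv_rev]

/-- In an orbit of the kernel at most one point has a nontrivial stabilizer in the complement. -/
theorem exists_exceptional [Finite A] {Ω : Type*} [MulAction A Ω] {K H : Subgroup A}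
    (hHK : H ≤ normalizer (K : Set A)) (hsr : ∀ h ∈ H, h ≠ 1 → K ⊓ centralizer {h} = ⊥)
    (hKs : Group.IsSolvable K) (lam : Ω) : ∃ f₀ ∈ K, ∀ f ∈ K, f • f₀ • lam ≠ f₀ • lam →
      ∀ h ∈ H, h • f • f₀ • lam = f • f₀ • lam → h = 1 := by
  let HO : Subgroup A :=
    { carrier := {h | h ∈ H ∧ ∃ f ∈ K, f • h • lam = lam}
      one_mem' := ⟨H.one_mem, 1, K.one_mem, by simp⟩
      mul_mem' := by
        rintro a b ⟨ha, f, hf, e⟩ ⟨hb, f', hf', e'⟩
        refine ⟨H.mul_mem ha hb, f * (a * f' * a⁻¹),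
          K.mul_mem hf (conj_mem_of_le_normalizer hHK ha hf'), ?_⟩
        rw [smul_smul, show f * (a * f' * a⁻¹) * (a * b) = f * a * (f' * b) by group,
          mul_smul, mul_smul f', e', mul_smul, e]
      inv_mem' := by
        rintro a ⟨ha, f, hf, e⟩
        refine ⟨H.inv_mem ha, a⁻¹ * f⁻¹ * a,
          inv_conj_mem_of_le_normalizer hHK ha (K.inv_mem hf), ?_⟩
        rw [smul_smul, show a⁻¹ * f⁻¹ * a * a⁻¹ = (f * a)⁻¹ by group, inv_smul_eq_iff, mul_smul, e] }
  have hHO : HO ≤ H := fun _ h => h.1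
  have hcHK := coprime_of_semiregular hHK hsr
  obtain ⟨f₀, hf₀, hμ₀⟩ := exists_fixed_point (A := HO) (K := K) (hHO.trans hHK)
    (coprime_of_le_left hcHK hHO) (Or.inr hKs) (x := lam) (fun a ha => ha.2)
  refine ⟨f₀, hf₀, fun f hf hne' h hh e => ?_⟩
  by_contra h1
  have h2 : h ∈ HO := by
    refine ⟨hh, (f * f₀)⁻¹ * (h * (f * f₀) * h⁻¹), K.mul_mem (K.inv_mem (K.mul_mem hf hf₀))
      (conj_mem_of_le_normalizer hHK hh (K.mul_mem hf hf₀)), ?_⟩
    rw [smul_smul, show (f * f₀)⁻¹ * (h * (f * f₀) * h⁻¹) * h = (f * f₀)⁻¹ * (h * (f * f₀)) by group,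
      mul_smul, inv_smul_eq_iff, mul_smul, mul_smul, e]
  have h3 : zpowers h ≤ HO := zpowers_le.2 h2
  obtain ⟨c, hc1, hc2⟩ := exists_centralizer_smul_eq (A := zpowers h) (K := K)
    ((h3.trans hHO).trans hHK) (coprime_of_le_left hcHK (h3.trans hHO)) (Or.inr hKs)
    (x := f₀ • lam) (fun a ha => hμ₀ a (h3 ha)) hf
    (fun a ha => (zpowers_le.2 (MulAction.mem_stabilizer_iff.2 e) ha :))
  rw [centralizer_zpowers, hsr h hh h1, mem_bot] at hc1
  rw [hc1, one_smul] at hc2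
  exact hne' hc2.symm

theorem key_lin {k W Q : Type*} [Field k] [AddCommGroup W] [Module k W] [IsAlgClosed k]
    [FiniteDimensional k W] [Finite A] [Group Q] [Finite Q] [Group.IsNilpotent Q]
    (ψ : A →* MulAut Q) (σ : Representation k Q W) (τ : Representation k A W)
    (hστ : ∀ a x, τ a * σ x = σ (ψ a x) * τ a) (hQk : (Nat.card Q : k) ≠ 0) {K H : Subgroup A}
    [Fintype H] (hHK : H ≤ normalizer (K : Set A))
    (hsr : ∀ h ∈ H, h ≠ 1 → K ⊓ centralizer {h} = ⊥) (hKs : Group.IsSolvable K)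
    (hcop : (Nat.card K).Coprime (Nat.card Q)) (hfix : fixSub ψ K = ⊥) {c : Q}
    (hcH : c ∈ fixSub ψ H) (hcent : ∀ w, σ c (∑ h : H, τ h w) = ∑ h : H, τ h w) : σ c = 1 := by
  classical
  by_contra hne
  let _ := Fintype.ofFinite Q
  let _ := Fintype.ofFinite K
  let _ : MulAction A (Q → k) := funAct ψ k
  have hsm : ∀ (a : A) (μ : Q → k) (x : Q), (a • μ) x = μ (ψ a⁻¹ x) := fun _ _ _ => rfl
  have hτT : ∀ a x, τ a * cs σ x = cs σ (ψ a x) * τ a := fun a x => by
    rw [cs, cs, Finset.sum_mul, Finset.mul_sum]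
    refine Fintype.sum_equiv (ψ a).toEquiv _ _ fun y => ?_
    rw [hστ, map_mul (ψ a), map_mul (ψ a), map_inv]
    rfl
  have hwt : ∀ (a : A) (μ : Q → k) (w : W), Wt σ μ w → Wt σ (a • μ) (τ a w) := by
    intro a μ w hw x
    have := hτT a (ψ a⁻¹ x)
    rw [act_act, mul_inv_cancel, act_one] at this
    rw [← Module.End.mul_apply, ← this, Module.End.mul_apply, hw, map_smul, hsm]
  have hττ : ∀ (a : A) (w : W), τ a (τ a⁻¹ w) = w := fun a w => by
    rw [← Module.End.mul_apply, ← map_mul, mul_inv_cancel, map_one, Module.End.one_apply]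
  have hτ0 : ∀ (a : A) (w : W), w ≠ 0 → τ a w ≠ 0 := fun a w hw e => hw (by
    rw [← hττ a⁻¹ w, inv_inv, e, map_zero])
  obtain ⟨e, w, he1, hw0, hw⟩ := H46.exists_eigen_ne_one (σ c) hQk
    (by rw [← map_pow, pow_card_eq_one', map_one]) hne
  obtain ⟨v, hv, hv0, hv2⟩ := H46.exists_common_eigenvector (Set.range (cs σ))
    (by rintro _ ⟨a, rfl⟩ _ ⟨a', rfl⟩; exact cs_cs σ a a') (Module.End.eigenspace (σ c) e)
    (by
      rintro _ ⟨a, rfl⟩ u hu
      rw [Module.End.mem_eigenspace_iff] at hu ⊢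
      rw [← Module.End.mul_apply, ← cs_comm, Module.End.mul_apply, hu, map_smul])
    ((Submodule.ne_bot_iff _).2 ⟨w, Module.End.mem_eigenspace_iff.2 hw, hw0⟩)
  choose lam hlam using fun x => hv2 _ ⟨x, rfl⟩
  have hR : ∀ (μ : Q → k) (w : W), Wt σ μ w → (∀ h ∈ H, h • μ = μ → h = 1) → σ c w = w := by
    intro μ w hw hst
    have h0 : Wt σ μ (σ c w - w) := fun x => by rw [map_sub, hw.map c x, hw x, smul_sub]
    refine sub_eq_zero.1 (indep (cs σ) (Finset.univ.erase (1 : H)) (fun h => (h : A) • μ) μ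
      (fun h hh e => (Finset.mem_erase.1 hh).1 (Subtype.ext (hst h h.2 e)))
      (fun h => τ h (σ c w - w)) _ h0 (fun h _ => hwt h μ _ h0) ?_)
    have h1 := Finset.add_sum_erase Finset.univ (fun h : H => τ h (σ c w - w)) (Finset.mem_univ 1)
    rw [OneMemClass.coe_one, map_one, Module.End.one_apply] at h1
    rw [h1]
    simp only [map_sub, Finset.sum_sub_distrib]
    rw [← hcent w, map_sum, sub_eq_zero]
    refine Finset.sum_congr rfl fun h _ => ?_
    rw [← Module.End.mul_apply, hστ, hcH _ h.2, Module.End.mul_apply]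
  obtain ⟨f₀, hf₀, hex⟩ := exists_exceptional hHK hsr hKs lam
  set μ₀ := f₀ • lam with hμ₀
  let S : Set (Q → k) := {μ | ∃ f ∈ K, μ = f • μ₀}
  haveI := kerS_normal (σ := σ) S
  haveI := kerS_normal (σ := σ) (S \ {μ₀})
  have hcR : c ∈ kerS σ (S \ {μ₀}) := by
    rintro _ ⟨⟨f, hf, rfl⟩, h1⟩ w hw
    exact hR _ w hw (hex f hf h1)
  have hcN : c ∉ kerS σ S := fun h => he1 (smul_left_injective k hv0 (by
    have h1 := h lam ⟨f₀⁻¹, inv_mem hf₀, (inv_smul_smul f₀ lam).symm⟩ v hlam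
    rw [Module.End.mem_eigenspace_iff.1 hv] at h1
    exact h1.trans (one_smul k v).symm))
  let π := QuotientGroup.mk' (kerS σ S)
  haveI : ((kerS σ (S \ {μ₀})).map π).Normal :=
    Normal.map inferInstance _ (QuotientGroup.mk'_surjective _)
  obtain ⟨⟨_, ⟨z, hzR, rfl⟩, hzZ⟩, hz1⟩ := ne_bot_iff_exists_ne_one.1
    (H5.inf_center_ne_bot_of_nilpotent ((kerS σ (S \ {μ₀})).map π) fun h => hcN (by
      rw [Subgroup.map_eq_bot_iff, QuotientGroup.ker_mk'] at h
      exact h hcR))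
  let Z : Subgroup Q := (center _).comap π
  have mZ : ∀ x, x ∈ Z ↔ ∀ y, x⁻¹ * (y * x * y⁻¹) ∈ kerS σ S := fun x => by
    rw [mem_comap, mem_center_iff]
    refine ⟨fun h y => QuotientGroup.eq.1 ?_, fun h y => ?_⟩
    · change π x = π (y * x * y⁻¹)
      rw [map_mul, map_mul, h, map_inv, mul_inv_cancel_right]
    · obtain ⟨y, rfl⟩ := QuotientGroup.mk'_surjective _ y
      have h1 : π x = π (y * x * y⁻¹) := QuotientGroup.eq.2 (h y)
      rw [map_mul, map_mul, map_inv, eq_mul_inv_iff_mul_eq] at h1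
      exact h1.symm
  have hZK : ∀ b ∈ K, ∀ x ∈ Z, ψ b x ∈ Z := fun b hb x hx => (mZ _).2 fun y => by
    rintro _ ⟨f, hf, rfl⟩ w hw
    have h1 := (mZ x).1 hx (ψ b⁻¹ y) _ ⟨b⁻¹ * f, mul_mem (inv_mem hb) hf, (mul_smul _ _ _).symm⟩ _
      (hwt b⁻¹ _ w hw)
    have h2 := congrArg (τ b) h1
    rw [← Module.End.mul_apply, hστ, Module.End.mul_apply, hττ] at h2
    simpa only [map_mul (ψ b), map_inv (ψ b), act_act, mul_inv_cancel, act_one] using h2
  let s : (Q → k) → Q → k := fun μ x => μ x * (Nat.card Q : k)⁻¹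
  have hs : ∀ x ∈ Z, ∀ f ∈ K, ∀ w, Wt σ (f • μ₀) w → σ x w = s (f • μ₀) x • w :=
    fun x hx f hf w hw => scalar hQk ((mZ x).1 hx) ⟨f, hf, rfl⟩ hw
  have hu : ∀ f : A, Wt σ (f • μ₀) (τ f (τ f₀ v)) := fun f => hwt _ _ _ (hwt _ _ _ hlam)
  have hu0 : ∀ f : A, τ f (τ f₀ v) ≠ 0 := fun f => hτ0 _ _ (hτ0 _ _ hv0)
  have hone : ∀ x ∈ Z, ∀ f ∈ K, σ x (τ f (τ f₀ v)) = τ f (τ f₀ v) → s (f • μ₀) x = 1 :=
    fun x hx f hf h => smul_left_injective k (hu0 f)
      (((hs x hx f hf _ (hu f)).symm.trans h).trans (one_smul k _).symm)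
  have hmul : ∀ x ∈ Z, ∀ y ∈ Z, ∀ f ∈ K, s (f • μ₀) (x * y) = s (f • μ₀) x * s (f • μ₀) y :=
    fun x hx y hy f hf => smul_left_injective k (hu0 f) (by
      beta_reduce
      rw [← hs _ (mul_mem hx hy) f hf _ (hu f), map_mul, Module.End.mul_apply, hs y hy f hf _ (hu f),
        map_smul, hs x hx f hf _ (hu f), smul_smul, mul_comm])
  let χ : Z →* k :=
    { toFun := fun x => ∏ f : K, s ((f : A) • μ₀) x
      map_one' := Finset.prod_eq_one fun f _ => hone 1 (one_mem _) f f.2 (by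
        rw [map_one, Module.End.one_apply])
      map_mul' := fun x y => by
        rw [← Finset.prod_mul_distrib]
        exact Finset.prod_congr rfl fun f _ => hmul x x.2 y y.2 f f.2 }
  have hχ : Z ≤ χ.ker.map Z.subtype := by
    refine (ext_actComm_sup_fixSub hZK (hcop.coprime_dvd_right Z.card_subgroup_dvd_card)
      (Or.inl hKs)).ge.trans (sup_le (actComm_le.2 fun b hb x hx => ?_)
      (by rw [hfix, inf_bot_eq]; exact bot_le))
    refine ⟨⟨x, hx⟩⁻¹ * ⟨_, hZK b hb x hx⟩, ?_, rfl⟩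
    have h1 : χ ⟨_, hZK b hb x hx⟩ = χ ⟨x, hx⟩ :=
      Fintype.prod_equiv (Equiv.mulLeft (⟨b, hb⟩ : K)⁻¹) _ _ fun f => by
        change ((f : A) • μ₀) (ψ b x) * _ = ((b⁻¹ * f) • μ₀) x * _
        rw [hsm, hsm, act_act, mul_inv_rev, inv_inv]
    rw [SetLike.mem_coe, MonoidHom.mem_ker, map_mul, h1, ← map_mul, inv_mul_cancel, map_one]
  obtain ⟨z', h1, rfl⟩ := hχ (x := z) hzZ
  change ∏ f : K, s ((f : A) • μ₀) z' = 1 at h1
  rw [← Finset.prod_filter_mul_prod_filter_not Finset.univ (fun f : K => (f : A) • μ₀ = μ₀),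
    Finset.prod_eq_one (s := Finset.univ.filter fun f : K => ¬ (f : A) • μ₀ = μ₀)
      (fun f hf => hone _ z'.2 f f.2 (hzR _ ⟨⟨f, f.2, rfl⟩, (Finset.mem_filter.1 hf).2⟩ _ (hu f))),
    mul_one, Finset.prod_congr rfl (g := fun _ => s μ₀ z')
      (fun f hf => by rw [(Finset.mem_filter.1 hf).2]), Finset.prod_const] at h1
  have h3 : (Finset.univ.filter fun f : K => (f : A) • μ₀ = μ₀).card =
      Nat.card ((MulAction.stabilizer A μ₀).subgroupOf K) := by
    rw [Nat.card_eq_fintype_card, Fintype.card_subtype]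
    congr 1
    exact Finset.filter_congr fun _ _ => Iff.rfl
  rw [h3] at h1
  have h4 : ∀ n : ℕ, s ((1 : A) • μ₀) (z' ^ n : Z) = s ((1 : A) • μ₀) z' ^ n := fun n => by
    induction n with
    | zero =>
      rw [pow_zero, pow_zero]
      exact hone 1 (one_mem _) 1 (one_mem _) (by rw [map_one, Module.End.one_apply])
    | succ n ih => rw [pow_succ, coe_mul, hmul _ (z' ^ n).2 _ z'.2 1 (one_mem _), ih, pow_succ]
  have h5 := h4 (Nat.card Q)
  rw [coe_pow, pow_card_eq_one', hone 1 (one_mem _) 1 (one_mem _) (by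
    rw [map_one, Module.End.one_apply]), one_smul] at h5
  have h6 := eq_one_of_pow_coprime (Nat.Coprime.coprime_dvd_left (card_subgroup_dvd_card _) hcop) h1
    h5.symm
  refine hz1 (Subtype.ext ((QuotientGroup.eq_one_iff _).2 ?_))
  rintro _ ⟨f, hf, rfl⟩ w hw
  by_cases e : f • μ₀ = μ₀
  · refine (hs _ z'.2 f hf w hw).trans ?_
    rw [e, h6, one_smul]
  · exact hzR _ ⟨⟨f, hf, rfl⟩, e⟩ w hw

/-- An element of `C_Q(H)` centralizing `C_V(H)` centralizes `V`. -/
theorem key [Finite A] {Q V : Type*} [Group Q] [Finite Q] [Group.IsNilpotent Q] [CommGroup V]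
    [Finite V] (ψ : A →* MulAut Q) (φ : A →* MulAut V) (ρ : Q →* MulAut V)
    (hc : ∀ a x, φ a * ρ x = ρ (ψ a x) * φ a) {p : ℕ} [Fact p.Prime] (hV : ∀ v : V, v ^ p = 1)
    (hQ : ¬ p ∣ Nat.card Q) {K H : Subgroup A} (hHK : H ≤ normalizer (K : Set A))
    (hsr : ∀ h ∈ H, h ≠ 1 → K ⊓ centralizer {h} = ⊥) (hKs : Group.IsSolvable K)
    (hcop : (Nat.card K).Coprime (Nat.card Q)) (hfix : fixSub ψ K = ⊥) {c : Q}
    (hcH : c ∈ fixSub ψ H) (hcent : ∀ v ∈ fixSub φ H, ρ c v = v) : ρ c = 1 := by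
  classical
  let _ := Fintype.ofFinite A
  let k := AlgebraicClosure (ZMod p)
  have hQk : (Nat.card Q : k) ≠ 0 := by rwa [Ne, CharP.cast_eq_zero_iff k p]
  let σ : Representation k Q (Additive V →+ k) := (H46.dualRep k V).comp ρ
  let τ : Representation k A (Additive V →+ k) := (H46.dualRep k V).comp φ
  refine H46.dualRep_injective (k := k) ⟨inferInstance, hV⟩ ((key_lin ψ σ τ (fun a x => by
    simp only [σ, τ, MonoidHom.comp_apply, ← map_mul, hc]) hQk hHK hsr hKs hcop hfix hcH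
    fun w => ?_).trans (map_one _).symm)
  have h3 : ∀ v : V, (∑ h : H, τ h w) (Additive.ofMul v) =
      w (Additive.ofMul (∏ h : H, φ h v)) := by
    intro v
    rw [AddMonoidHom.finsetSum_apply, ofMul_prod, map_sum]
    refine Fintype.sum_equiv (Equiv.inv H) _ _ fun h => ?_
    simp only [τ, MonoidHom.comp_apply, H46.dualRep_apply, Equiv.inv_apply, InvMemClass.coe_inv,
      map_inv]
    rfl
  change H46.dualRep k V (ρ c) _ = _
  rw [H46.dualRep_eq_self_iff]
  intro v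
  rw [h3, h3]
  congr 2
  rw [← hcent _ (prod_mem_fixSub φ H v), map_prod]
  refine Finset.prod_congr rfl fun h _ => ?_
  rw [← MulAut.mul_apply, hc, hcH _ h.2, MulAut.mul_apply]

end H49.KM
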