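import Mathlib
import Cfsg.Agent.Base
import Cfsg.Agent.Lib.KMS.Key
import Cfsg.Agent.Lib.KMS2.Ord
import Cfsg.Agent.Lib.FL49.Fit
import Cfsg.Agent.Lib.LocStruct.SylowIn

/-!
# Frobenius groups of operators with fixed point free kernel: cores of `C_G(H)` (helper49)
-/

set_option autoImplicit false

namespace H49.KM

open Subgroup H2 H83 H49.FL Cfsg
open scoped commutatorElement

local notation "𝐍(" H ")" => Subgroup.normalizer (SetLike.coe H)

section abstr
variable {G : Type*} [Group G] [Finite G] {C : Subgroup G} {π : Set ℕ}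

theorem p1_eq_bot [Group.IsSolvable G] (h : P1 C) (h0 : piCore π G = ⊥) {T : Subgroup G}
    (hT : IsPiSubgroup π T) (hTC : T ≤ C) (hn : C ≤ 𝐍(T)) : T = ⊥ := by
  have hcore : ∀ p : ℕ, p.Prime → p ∈ π → pCore p G = ⊥ := fun p hp hπ => by
    haveI := Fact.mk hp
    rw [eq_bot_iff, ← h0, H1.pCore_eq_piCore]
    exact H1.piCore_mono (Set.singleton_subset_iff.2 hπ)
  by_contra hne
  obtain ⟨q, hq, hd⟩ := Nat.exists_prime_and_dvd fun e => hne (card_eq_one.1 e)
  haveI := Fact.mk hq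
  have hqπ := H1.isPiSubgroup_iff.1 hT q hq hd
  obtain ⟨R, hRT, hR, hR0⟩ := H69.exists_isPGroup_ne_bot_of_dvd hd
  refine hR0 (eq_bot_iff.2 (le_trans ?_ (hcore q hq hqπ).le))
  refine H1.le_pCore_of_le_fitting hR (le_trans ?_ H1.centralizer_fitting_le)
  rw [le_centralizer_iff, H1.fitting_eq_iSup_pCore]
  refine iSup_le fun ⟨p, hp⟩ => ?_
  haveI := Fact.mk hp
  by_cases hpπ : p ∈ π
  · exact (hcore p hp hpπ).le.trans bot_le
  have hpq : p ≠ q := fun e => hpπ (e ▸ hqπ)
  have hd : pCore p G ⊓ T = ⊥ := H1.inf_eq_bot_of_isPiSubgroup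
    (H1.isPiSubgroup_singleton_iff.2 H1.isPGroup_pCore) hT (Set.disjoint_singleton_left.2 hpπ)
  rw [← le_centralizer_iff]
  refine le_centralizer_of_commutator_le_frattini le_normalizer_of_normal
    (IsPGroup.coprime_card_of_ne q p (Ne.symm hpq) _ _ hR (H1.isPGroup_pCore.to_subgroup _))
    (Subgroup.commutator_le.2 fun v hv t ht => ?_)
  refine h p q _ _ hp hq hpq inferInstance inferInstance (el_frattini H1.isPGroup_pCore) t
    (hTC (hRT ht)) (by
      obtain ⟨n, hn⟩ := hR ⟨t, ht⟩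
      exact ⟨n, congrArg Subtype.val hn⟩) (fun w hw => ?_) v hv
  have : ⁅w, t⁆ ∈ pCore p G ⊓ T := ⟨commutator_le_left _ ⊤ (commutator_mem_commutator hw.1 trivial),
    H69.commutator_le_right_of_le_normalizer hn (commutator_mem_commutator hw.2 (hRT ht))⟩
  rw [hd, mem_bot] at this
  rw [this]
  exact one_mem _

theorem p1_piCore [Group.IsSolvable G] (h : P1 C) (π : Set ℕ) :
    piCore π C = (piCore π G).subgroupOf C := by
  refine le_antisymm (H69.le_subgroupOf_iff.2 ?_) (H1.piCore_subgroupOf_le C)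
  have := p1_eq_bot (h.quot (piCore π G)) H1.piCore_quotient_piCore
    (H1.isPiSubgroup_map (H1.isPiSubgroup_piCoreOf C) _) (map_mono (H1.piCoreOf_le C))
    ((map_mono (H1.le_normalizer_piCoreOf C)).trans (le_normalizer_map _))
  rwa [Subgroup.map_eq_bot_iff, QuotientGroup.ker_mk'] at this

theorem p1_fitting [Group.IsSolvable G] (h : P1 C) :
    fittingSubgroup C = (fittingSubgroup G).subgroupOf C :=
  le_antisymm (H69.le_subgroupOf_iff.2 h.fitting) (H1.fitting_subgroupOf_le C)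

omit [Finite G] in
theorem comap_core {Y : Type*} [Group Y] (M : Subgroup G) [M.Normal] (f : G →* Y)
    (hf : Function.Surjective f) (hk : f.ker = M) (π : Set ℕ) :
    (piCore π (G ⧸ M)).comap (QuotientGroup.mk' M) = (piCore π Y).comap f := by
  subst hk
  rw [← H1.comap_piCore_equiv (QuotientGroup.quotientKerEquivOfSurjective f hf), comap_comap]
  rfl

theorem p1_step [Group.IsSolvable G] (h : P1 C) (N : Subgroup G) [N.Characteristic]
    (M : Subgroup C) [M.Normal] (e : M = N.subgroupOf C) (π : Set ℕ) :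
    (piCore π (C ⧸ M)).comap (QuotientGroup.mk' M) =
      ((piCore π (G ⧸ N)).comap (QuotientGroup.mk' N)).subgroupOf C := by
  rw [comap_core M ((QuotientGroup.mk' N).subgroupMap C) (MonoidHom.subgroupMap_surjective _ _)
    (by rw [Subgroup.ker_subgroupMap, QuotientGroup.ker_mk', e]) π, p1_piCore (h.quot N) π]
  rfl

theorem p1_series [Group.IsSolvable G] (h : P1 C) (p : ℕ) [Fact p.Prime] (n : ℕ) :
    (upperPSeries p G n).1.Characteristic ∧
      (upperPSeries p C n).1 = (upperPSeries p G n).1.subgroupOf C := by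
  induction n with
  | zero => exact ⟨(inferInstance : (⊥ : Subgroup G).Characteristic), (bot_subgroupOf C).symm⟩
  | succ n ih =>
    obtain ⟨h1, h2⟩ := ih
    by_cases hn : Even n
    · simp only [upperPSeries, if_pos hn, H1.pPrimeCore_eq_piCore]
      exact ⟨Characteristic.comap_quotient_mk inferInstance, p1_step h _ _ h2 _⟩
    · simp only [upperPSeries, if_neg hn, H1.pCore_eq_piCore]
      exact ⟨Characteristic.comap_quotient_mk inferInstance, p1_step h _ _ h2 _⟩

end abstr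

variable {A G : Type*} [Group A] [Finite A] [Group G] [Finite G] {φ : A →* MulAut G}
  {F H : Subgroup A} [F.Normal]

/-- the standing hypotheses -/
structure St (φ : A →* MulAut G) (F H : Subgroup A) : Prop where
  nil : Group.IsNilpotent F
  sr : ∀ h ∈ H, h ≠ 1 → F ⊓ centralizer {h} = ⊥
  fix : fixSub φ F = ⊥
  sol : Group.IsSolvable G
  syl : ∀ (q : ℕ) [Fact q.Prime], ∃ P : Sylow q G, ∀ a, ∀ x ∈ (P : Subgroup G), φ a x ∈ (P : Subgroup G)

namespace St
variable (S : St φ F H)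
include S

theorem card_sub {M : Subgroup G} (hM : ∀ a, ∀ x ∈ M, φ a x ∈ M) :
    Nat.card M = Nat.card (M ⊓ fixSub φ H : Subgroup G) ^ Nat.card H := by
  rw [← map_fixSub_subAut φ H M hM, H69.card_map_subtype]
  exact H84.KM.card_eq S.nil S.sr _ M _ rfl (H1.isSolvable_of_le (K := ⊤) (by
    haveI := S.sol; infer_instance) le_top) (fixSub_subAut_eq_bot φ S.fix M hM)

theorem le_of_inf_le {V W : Subgroup G} (hV : ∀ a, ∀ x ∈ V, φ a x ∈ V)
    (hW : ∀ a, ∀ x ∈ W, φ a x ∈ W) (h1 : W ≤ V) (h : V ⊓ fixSub φ H ≤ W) : V ≤ W :=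
  (eq_of_le_of_card_ge h1 (by
    rw [S.card_sub hV, S.card_sub hW]
    exact Nat.pow_le_pow_left (card_le_of_le (le_inf h inf_le_right)) _)).ge

theorem p2 : P2 (fixSub φ H) := fun _ V W _ _ _ hE h =>
  S.le_of_inf_le (inv_of_characteristic φ V) (inv_of_characteristic φ W) hE.le h

theorem sylow_inf {q : ℕ} [Fact q.Prime] (P : Sylow q G)
    (hP : ∀ a, ∀ x ∈ (P : Subgroup G), φ a x ∈ (P : Subgroup G)) :
    H69.IsSylowIn q (P ⊓ fixSub φ H) (fixSub φ H) := by
  obtain ⟨T, hT⟩ := H69.exists_isSylowIn q (fixSub φ H)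
  refine hT.of_card_le (P.isPGroup'.to_inf_left) inf_le_right ?_
  obtain ⟨m, hm⟩ := hT.isP.exists_card_eq
  have h1 := S.card_sub (M := ⊤) fun _ _ _ => mem_top _
  rw [top_inf_eq, card_top] at h1
  have h2 : q ^ (m * Nat.card H) ∣ Nat.card G := by
    rw [h1, pow_mul, ← hm]
    exact pow_dvd_pow_of_dvd (card_dvd_of_le hT.le) _
  have h3 := Nat.le_of_dvd Nat.card_pos (P.pow_dvd_card_of_pow_dvd_card h2)
  rw [S.card_sub hP, pow_mul, ← hm] at h3
  exact (Nat.pow_le_pow_iff_left Nat.card_pos.ne').1 h3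

theorem p1_core {p q : ℕ} [hp : Fact p.Prime] [hq : Fact q.Prime] (hpq : p ≠ q) {V W P : Subgroup G}
    [V.Normal] [W.Normal] (hV : ∀ a, ∀ x ∈ V, φ a x ∈ V) (hW : ∀ a, ∀ x ∈ W, φ a x ∈ W)
    (hE : El p V W) (hP : IsPGroup q P) (hPi : ∀ a, ∀ x ∈ P, φ a x ∈ P) {t : G} (ht : t ∈ P)
    (htC : t ∈ fixSub φ H) (h1 : ∀ v ∈ V ⊓ fixSub φ H, ⁅v, t⁆ ∈ W) : ∀ v ∈ V, ⁅v, t⁆ ∈ W := by
  let f := QuotientGroup.mk' W
  have hf : ∀ x y : G, ⁅x, y⁆ ∈ W ↔ f y * f x * (f y)⁻¹ = f x := fun x y => by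
    rw [← QuotientGroup.eq_one_iff (N := W), mul_inv_eq_iff_eq_mul]
    exact ((congrArg (· = 1) (map_commutatorElement f x y)).to_iff.trans
      commutatorElement_eq_one_iff_mul_comm).trans eq_comm
  haveI : (V.map f).Normal := Normal.map inferInstance _ (QuotientGroup.mk'_surjective _)
  let _ : CommGroup (V.map f) := { (inferInstance : Group (V.map f)) with
    mul_comm := by
      rintro ⟨_, x, hx, rfl⟩ ⟨_, y, hy, rfl⟩
      exact Subtype.ext (mul_inv_eq_iff_eq_mul.1 ((hf y x).1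
        (hE.comm (commutator_mem_commutator hy hx)))) }
  obtain ⟨K, hKF, hnK, hcop, hK⟩ := exists_pPrime_part F S.nil q
  have h0 := fpf_of_pPrime_part φ (le_normalizer.trans hnK) hK hP (fun a _ => hPi a)
    (by rw [S.fix, inf_bot_eq])
  obtain ⟨n, hn⟩ := hP.exists_card_eq
  have hKs := H1.isNilpotent_of_le S.nil hKF
  haveI := hP.isNilpotent
  have h2 := key (Q := P) (V := V.map f) (subAut φ P hPi)
    (subAut (quotAut φ W hW) _ (inv_map_mk φ W hW hV))
    (MulAut.conjNormal.comp (f.comp P.subtype)) (fun a x => by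
      refine MulEquiv.ext ?_
      rintro ⟨_, v, hv, rfl⟩
      refine Subtype.ext ?_
      change f (φ a (x * v * (x : G)⁻¹)) = f (φ a x * φ a v * (φ a x)⁻¹)
      rw [map_mul (φ a), map_mul (φ a), map_inv (φ a)]) (p := p) (by
      rintro ⟨_, v, hv, rfl⟩
      exact Subtype.ext ((QuotientGroup.eq_one_iff (v ^ p)).2 (hE.pw v hv))) (by
      rw [hn]
      exact fun h => hpq ((Nat.prime_dvd_prime_iff_eq hp.out hq.out).1 (hp.out.dvd_of_dvd_pow h)))
    (K := K) (H := H) (le_normalizer_of_normal.trans hnK) (semiregular_mono S.sr hKF le_rfl)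
    inferInstance (by rw [hn]; exact hcop.pow_right n) (by
      rw [← map_eq_bot_iff_of_injective _ P.subtype_injective, map_fixSub_subAut, h0])
    (c := ⟨t, ht⟩) (fun h hh => Subtype.ext (htC h hh)) (by
      rintro ⟨_, g, hg, rfl⟩ hfx
      obtain ⟨x, hx, h3⟩ := H84.KM.cover S.nil S.sr _ G φ W rfl hW (H1.isSolvable_of_le (K := ⊤) (by
        haveI := S.sol; infer_instance) le_top) (by rw [S.fix, inf_bot_eq]) g
        ((mem_fixSub_quotAut φ H W hW g).1 fun h hh => congrArg Subtype.val (hfx h hh))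
      have h4 := (hf _ _).1 (h1 _ ⟨mul_mem hg (hE.le hx), h3⟩)
      rw [map_mul, (QuotientGroup.eq_one_iff x).2 hx |> fun e : f x = 1 => e, mul_one] at h4
      exact Subtype.ext h4)
  exact fun v hv => (hf v t).2 (congrArg (fun g : MulAut (V.map f) => (g ⟨f v, v, hv, rfl⟩ : G ⧸ W)) h2)

theorem p1 : P1 (fixSub φ H) := by
  intro p q V W hp hq hpq hV hW hE t ht ⟨n, hn⟩ h1 v hv
  haveI := Fact.mk hp
  haveI := Fact.mk hq
  obtain ⟨P, hP⟩ := S.syl q
  obtain ⟨g, hg, h2⟩ := (S.sylow_inf P hP).exists_cj_le (R := zpowers t)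
    (IsPGroup.of_card (n := Nat.find ((Nat.dvd_prime_pow hq).1 (orderOf_dvd_of_pow_eq_one hn))) (by
      rw [Nat.card_zpowers]
      exact (Nat.find_spec ((Nat.dvd_prime_pow hq).1 (orderOf_dvd_of_pow_eq_one hn))).2))
    (zpowers_le.2 ht)
  have h3 := h2 (H69.cj_mem g (mem_zpowers t))
  have e : ∀ x y z : G, ⁅z * x * z⁻¹, z * y * z⁻¹⁆ = z * ⁅x, y⁆ * z⁻¹ := fun x y z => by
    simp only [commutatorElement_def]; group
  have h4 := S.p1_core hpq (inv_of_characteristic φ V) (inv_of_characteristic φ W) hE P.isPGroup' hP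
    h3.1 h3.2 (fun w hw => by
      have h5 := (inferInstance : W.Normal).conj_mem _ (h1 (g⁻¹ * w * g⁻¹⁻¹)
        ⟨(inferInstance : V.Normal).conj_mem _ hw.1 _,
          Subgroup.mul_mem _ (Subgroup.mul_mem _ (Subgroup.inv_mem _ hg) hw.2)
            (Subgroup.inv_mem _ (Subgroup.inv_mem _ hg))⟩) g
      rwa [← e, show g * (g⁻¹ * w * g⁻¹⁻¹) * g⁻¹ = w by group] at h5)
    _ ((inferInstance : V.Normal).conj_mem _ hv g)
  rw [e] at h4
  simpa [mul_assoc] using (inferInstance : W.Normal).conj_mem _ h4 g⁻¹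

theorem plength (p : ℕ) [Fact p.Prime] (k : ℕ) : PLengthLE p k G ↔ PLengthLE p k (fixSub φ H) := by
  haveI := S.sol
  obtain ⟨h1, h2⟩ := p1_series S.p1 p (2 * k + 1)
  rw [PLengthLE, PLengthLE, h2, subgroupOf_eq_top]
  exact ⟨fun h => h.ge.trans' le_top, fun h => top_le_iff.1 (S.le_of_inf_le
    (fun _ _ _ => mem_top _) (inv_of_characteristic φ _) le_top (inf_le_right.trans h))⟩

end St

end H49.KM
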